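import Mathlib
import Cfsg.Agent.Lib.Helper18.T23.H1.SOTTools
import Cfsg.Agent.Lib.Helper23.SOTGTM
import Cfsg.Agent.Lib.Helper18.T23.H9.SOTX1

/-!
helper1, S5666 (GA) leaf X2 `exists_x0`.
-/

set_option autoImplicit false
set_option linter.unusedSectionVars false
set_option linter.unusedVariables false

namespace Cfsg.Agent.Lib.Helper18.T23.H1.SOTLeaf
open Matrix Module
open Cfsg.Agent.Lib.Helper25.Tens Cfsg.Agent.Lib.Helper25.SpT Cfsg.Agent.Lib.Helper19.OSub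
open Cfsg.Agent.Lib.Helper18.T23.H2.SOT
open Cfsg.Agent.Lib.Helper18.T23.H9.SOTLeaf (isPGroup_XA isPGroup_XAc kA_mem_SpV)
open scoped Kronecker

variable {F : Type*} [Field F] [Fintype F] {a b : ℕ} {G : Matrix (Fin b) (Fin b) F}
  {M : Subgroup (GL (Idx a b) F)}

theorem kA_mem' (h : MCtx a b G M) (x : Fin a → F) (c : F) : (kA x c : GL (Idx a b) F) ∈ M :=
  h.le ⟨kA_mem_KG x c, kA_mem_SpV G x c⟩

theorem Lx_le' (h : MCtx a b G M) (x x' : Fin a → F) (g : GL (Idx a b) F) (hg : g ∈ M) :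
    Lx x g x' ≤ M := by
  unfold Lx XA XAc
  rw [sup_le_iff]
  constructor
  · rw [Subgroup.closure_le]
    rintro t ⟨c, rfl⟩
    exact kA_mem' h x c
  · rw [Subgroup.closure_le]
    rintro t ⟨c, rfl⟩
    exact M.mul_mem (M.mul_mem hg (kA_mem' h x' c)) (M.inv_mem hg)

/-- (X2) -/
theorem exists_x0 (h : MCtx a b G M) (h2 : L2 M) (x x' : Fin a → F) (hx : x ≠ 0) (hx' : x' ≠ 0)
    (g : GL (Idx a b) F) (hg : g ∈ M) :
    ∃ x₀ ∈ Lx x g x', g⁻¹ * x₀ ∈ KG a b F := by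
  haveI : Fact (ringChar F).Prime := ⟨CharP.char_is_prime F (ringChar F)⟩
  have hXM : XA x ≤ M := by
    unfold XA
    rw [Subgroup.closure_le]
    rintro t ⟨c, rfl⟩
    exact kA_mem' h x c
  have hXcM : XAc g x' ≤ M := by
    unfold XAc
    rw [Subgroup.closure_le]
    rintro t ⟨c, rfl⟩
    exact M.mul_mem (M.mul_mem hg (kA_mem' h x' c)) (M.inv_mem hg)
  have hXK : XA x ≤ KG a b F := by
    unfold XA
    rw [Subgroup.closure_le]
    rintro t ⟨c, rfl⟩
    exact kA_mem_KG x c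
  exact Cfsg.Agent.Lib.Helper23.SOTLeafM.exists_mem_sup_coset (ringChar F) M (KG a b F) (XA x)
    (XAc g x') g hg hXM hXcM (isPGroup_XA (ringChar F) x) (isPGroup_XAc (ringChar F) g x') hXK
    (by
      intro m hm hmt
      apply h2 x hx m hm
      intro c
      exact hmt _ (Subgroup.subset_closure ⟨c, rfl⟩))
    (by
      intro m hm hmt
      apply h2 x' hx' (g⁻¹ * m) (M.mul_mem (M.inv_mem hg) hm)
      intro c
      have := hmt _ (Subgroup.subset_closure ⟨c, rfl⟩ :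
        g * (kA x' c : GL (Idx a b) F) * g⁻¹ ∈ XAc g x')
      have e : (g⁻¹ * m)⁻¹ * (kA x' c : GL (Idx a b) F) * (g⁻¹ * m) =
          m⁻¹ * (g * (kA x' c : GL (Idx a b) F) * g⁻¹) * m := by group
      rw [e]
      exact this)

end Cfsg.Agent.Lib.Helper18.T23.H1.SOTLeaf
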