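import Mathlib
import Cfsg.Agent.Lib.Helper18.T23.H1.SOTTools
import Cfsg.Agent.Lib.Helper18.T23.H1.SOTX2
import Cfsg.Agent.Lib.Helper18.T23.H9.SOTA1
import Cfsg.Agent.Lib.Helper18.T23.H4.SOTS
import Cfsg.Agent.Lib.Helper18.T23.H11.SOTC

/-!
helper1, S5666 (GA) leaf A2 `exists_x0_maps`.
-/

set_option autoImplicit false
set_option linter.unusedSectionVars false
set_option linter.unusedVariables false

namespace Cfsg.Agent.Lib.Helper18.T23.H1.SOTLeaf
open Matrix Module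
open Cfsg.Agent.Lib.Helper25.Tens Cfsg.Agent.Lib.Helper25.SpT Cfsg.Agent.Lib.Helper19.OSub
open Cfsg.Agent.Lib.Helper18.T23.H2.SOT
open Cfsg.Agent.Lib.Helper18.T23.H4.SOTLeaf (sim_of_kel_mem kel_conj_kA)
open Cfsg.Agent.Lib.Helper18.T23.H9.SOTLeaf (Lx_action)
open Cfsg.Agent.Lib.Helper18.T23.H11.SOTLeaf (stab_of_commute)
open scoped Kronecker

variable {F : Type*} [Field F] [Fintype F] {a b : ℕ} {G : Matrix (Fin b) (Fin b) F}
  {M : Subgroup (GL (Idx a b) F)}

/-- two fibres over independent vectors meet trivially -/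
lemma Rs_inf_Rs_eq_bot {x x₁ : Fin a → F} (hx : x ≠ 0) (hdep : ¬ ∃ l : F, x₁ = l • x) :
    Rs (b := b) x ⊓ Rs x₁ = ⊥ := by
  rw [eq_bot_iff]
  rintro v ⟨hv, hv₁⟩
  obtain ⟨y, rfl⟩ := mem_Rs.1 hv
  obtain ⟨y', hy'⟩ := mem_Rs.1 hv₁
  rw [Submodule.mem_bot]
  by_contra hne
  have hy0 : y ≠ 0 := by
    rintro rfl
    exact hne (pt_zero_right x)
  obtain ⟨l, hl⟩ := Function.ne_iff.mp hy0
  have key : ∀ i, x₁ i * y' l = x i * y l := fun i => congrFun hy' (i, l)
  have hy'l : y' l ≠ 0 := by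
    intro e
    apply hx
    ext i
    have := key i
    rw [e, mul_zero] at this
    rcases mul_eq_zero.1 this.symm with h0 | h0
    · exact h0
    · exact absurd h0 hl
  apply hdep
  refine ⟨y l * (y' l)⁻¹, ?_⟩
  ext i
  have := key i
  simp only [Pi.smul_apply, smul_eq_mul]
  field_simp
  linear_combination this

/-- the two nilpotents annihilate each other when `R'' ⊥ R_x` -/
lemma commute_of_perp (h : MCtx a b G M) (x x' : Fin a → F) (g : GL (Idx a b) F) (hg : g ∈ M)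
    (hperp : Rpp g x' ≤ perpV G (Rs x)) (c c' : F) :
    Commute (kA x c : GL (Idx a b) F) (g * kA x' c' * g⁻¹) := by
  have hgS : g ∈ SpV G := h.le_sp hg
  have hperp' : Rs (b := b) x ≤ perpV G (Rpp g x') := perpV_symm h.symm hperp
  obtain ⟨N'', hN''⟩ : ∃ N'' : Matrix (Idx a b) (Idx a b) F,
      N'' = (g : Matrix (Idx a b) (Idx a b) F) * NA x' *
        ((g⁻¹ : GL (Idx a b) F) : Matrix (Idx a b) (Idx a b) F) := ⟨_, rfl⟩
  have hN''v : ∀ v, N'' *ᵥ v = mv g ((NA x' : Matrix (Idx a b) (Idx a b) F) *ᵥ mv g⁻¹ v) := by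
    intro v
    rw [hN'']
    unfold mv
    rw [Matrix.mulVec_mulVec, Matrix.mulVec_mulVec]
  have h1 : (NA x : Matrix (Idx a b) (Idx a b) F) * N'' = 0 := by
    apply Matrix.toLin'.injective
    apply LinearMap.ext
    intro v
    simp only [Matrix.toLin'_apply, map_zero, LinearMap.zero_apply]
    rw [← Matrix.mulVec_mulVec]
    apply NA_mulVec_eq_zero h.symm h.nd x
    apply hperp
    rw [hN''v]
    exact mv_mem_gim (NA_mulVec_mem_Rs x' _)
  have h2 : N'' * (NA x : Matrix (Idx a b) (Idx a b) F) = 0 := by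
    apply Matrix.toLin'.injective
    apply LinearMap.ext
    intro v
    simp only [Matrix.toLin'_apply, map_zero, LinearMap.zero_apply]
    rw [← Matrix.mulVec_mulVec, hN''v]
    have hv : (NA x : Matrix (Idx a b) (Idx a b) F) *ᵥ v ∈ perpV G (Rpp g x') :=
      hperp' (NA_mulVec_mem_Rs x v)
    have : mv g⁻¹ ((NA x : Matrix (Idx a b) (Idx a b) F) *ᵥ v) ∈ perpV G (Rs x') := by
      rw [mem_perpV]
      intro w hw
      rw [← fV_mv hgS, mv_mv_inv]
      exact hv _ (mv_mem_gim hw)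
    rw [NA_mulVec_eq_zero h.symm h.nd x' this, mv_zero]
  have hval : ((g * kA x' c' * g⁻¹ : GL (Idx a b) F) : Matrix (Idx a b) (Idx a b) F) =
      1 + c' • N'' := by
    rw [Units.val_mul, Units.val_mul, kA_val, hN'', Matrix.mul_add, Matrix.add_mul,
      Matrix.mul_one, ← Units.val_mul, mul_inv_cancel, Units.val_one, Matrix.mul_smul,
      Matrix.smul_mul]
  apply Units.ext
  rw [Units.val_mul (kA x c), Units.val_mul _ (kA x c), hval, kA_val]
  simp only [Matrix.mul_add, Matrix.add_mul, Matrix.mul_one, Matrix.one_mul, Matrix.smul_mul,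
    Matrix.mul_smul, h1, h2, smul_zero]
  rw [add_zero, add_zero, add_assoc, add_assoc, add_comm (c • NA x)]

/-- (A2) -/
theorem exists_x0_maps (h : MCtx a b G M) (h1 : L1 M) (h2 : L2 M) (x x' : Fin a → F) (hx : x ≠ 0)
    (hx' : x' ≠ 0) (g : GL (Idx a b) F) (hg : g ∈ M) (hgK : g ∉ KG a b F) :
    ∃ x₀ ∈ Lx x g x', g⁻¹ * x₀ ∈ KG a b F ∧ ∀ y : Fin b → F, mv x₀ (pt x y) ∈ Rpp g x' := by
  obtain ⟨x₀, hx₀L, hx₀K⟩ := exists_x0 h h2 x x' hx hx' g hg
  have hx₀K' := hx₀K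
  obtain ⟨α, β, hαβ⟩ := hx₀K'
  have hk : g⁻¹ * x₀ = kel α β := Units.ext hαβ
  have hx₀eq : x₀ = g * kel α β := by rw [← hk]; group
  have hx₀M : x₀ ∈ M := Lx_le' h x x' g hg hx₀L
  have hkS : (kel α β : GL (Idx a b) F) ∈ SpV G := by
    rw [← hk]
    exact h.le_sp (M.mul_mem (M.inv_mem hg) hx₀M)
  obtain ⟨μ, hμ, hαsim, -⟩ := sim_of_kel_mem h.toCtx α β hkS
  -- the vector `x₁`
  obtain ⟨x₁, hx₁def⟩ : ∃ x₁ : Fin a → F,
      x₁ = ((α⁻¹ : GL (Fin a) F) : Matrix (Fin a) (Fin a) F) *ᵥ x' := ⟨_, rfl⟩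
  have hαx₁ : (α : Matrix (Fin a) (Fin a) F) *ᵥ x₁ = x' := by
    rw [hx₁def, Matrix.mulVec_mulVec, ← Units.val_mul, mul_inv_cancel, Units.val_one,
      Matrix.one_mulVec]
  have hx₁R : ∀ y : Fin b → F, mv x₀ (pt x₁ y) ∈ Rpp g x' := by
    intro y
    have e : mv x₀ (pt x₁ y) = mv g (pt x' ((β : Matrix (Fin b) (Fin b) F) *ᵥ y)) := by
      rw [hx₀eq, mv_mul]
      congr 1
      unfold mv
      rw [kel_mulVec_pt, hαx₁]
    rw [e]
    exact mv_mem_gim (pt_mem_Rs x' _)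
  -- the root elements at `x₁` lie in `L_x`
  have hkAx₁ : ∀ c : F, (kA x₁ c : GL (Idx a b) F) ∈ Lx x g x' := by
    intro c
    have e := kel_conj_kA (b := b) α β μ hμ hαsim x₁ c
    rw [hαx₁] at e
    have e2 : (kA x₁ c : GL (Idx a b) F) =
        x₀⁻¹ * (g * kA x' (c * μ⁻¹) * g⁻¹) * x₀ := by
      rw [← e, hx₀eq]
      group
    rw [e2]
    refine (Lx x g x').mul_mem ((Lx x g x').mul_mem ((Lx x g x').inv_mem hx₀L) ?_) hx₀L
    exact (le_sup_right : XAc g x' ≤ Lx x g x') (Subgroup.subset_closure ⟨_, rfl⟩)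
  have hkAx : ∀ c : F, (kA x c : GL (Idx a b) F) ∈ Lx x g x' := by
    intro c
    exact (le_sup_left : XA x ≤ Lx x g x') (Subgroup.subset_closure ⟨_, rfl⟩)
  by_cases hs : sf x x₁ = 0
  · by_cases hdep : ∃ l : F, x₁ = l • x
    · -- case (iii)
      obtain ⟨l, hl⟩ := hdep
      have hl0 : l ≠ 0 := by
        rintro rfl
        rw [zero_smul] at hl
        apply hx'
        rw [← hαx₁, hl, Matrix.mulVec_zero]
      refine ⟨x₀, hx₀L, hx₀K, fun y => ?_⟩
      have e : pt x y = l⁻¹ • pt x₁ y := by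
        rw [hl, pt_smul_left, smul_smul, inv_mul_cancel₀ hl0, one_smul]
      rw [e, mv_smul]
      exact Submodule.smul_mem _ _ (hx₁R y)
    · -- case (ii): contradiction
      exfalso
      have hA1 := Lx_action h x x' g hg x₀ hx₀L
      have hx₁0 : x₁ ≠ 0 := by
        rintro rfl
        apply hx'
        rw [← hαx₁, Matrix.mulVec_zero]
      have ha : Rs (b := b) x₁ ≤ Rs x ⊔ Rpp g x' := by
        intro u hu
        obtain ⟨y, rfl⟩ := mem_Rs.1 hu
        have e : pt x₁ y = mv x₀ (pt x₁ y) - (mv x₀ (pt x₁ y) - pt x₁ y) := by abel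
        rw [e]
        exact Submodule.sub_mem _ ((le_sup_right : Rpp g x' ≤ Rs x ⊔ Rpp g x') (hx₁R y))
          (hA1.1 _)
      have hle : Rs (b := b) x ⊔ Rs x₁ ≤ Rs x ⊔ Rpp g x' := sup_le le_sup_left ha
      have hfr1 : finrank F (Rs (b := b) x ⊔ Rs x₁ : Submodule F (Idx a b → F)) = 2 * b := by
        have := Submodule.finrank_sup_add_finrank_inf_eq (Rs (b := b) x) (Rs x₁)
        rw [Rs_inf_Rs_eq_bot hx hdep, finrank_bot, finrank_Rs hx, finrank_Rs hx₁0] at this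
        omega
      have hfr2 : finrank F (Rs (b := b) x ⊔ Rpp g x' : Submodule F (Idx a b → F)) ≤ 2 * b := by
        have := Submodule.finrank_add_le_finrank_add_finrank (Rs (b := b) x) (Rpp g x')
        rw [finrank_Rs hx, finrank_Rpp g hx'] at this
        omega
      have heq : Rs (b := b) x ⊔ Rs x₁ = Rs x ⊔ Rpp g x' :=
        Submodule.eq_of_le_of_finrank_le hle (by rw [hfr1]; exact hfr2)
      have hperp : Rpp g x' ≤ perpV G (Rs x) := by
        have h3 : Rs (b := b) x ⊔ Rs x₁ ≤ perpV G (Rs x) := by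
          apply sup_le (Rs_le_perpV G x)
          intro v hv
          obtain ⟨y, rfl⟩ := mem_Rs.1 hv
          rw [mem_perpV]
          intro w hw
          obtain ⟨y', rfl⟩ := mem_Rs.1 hw
          rw [fV_pt, sf_skew, hs, neg_zero, zero_mul]
        exact (le_sup_right : Rpp g x' ≤ Rs x ⊔ Rpp g x').trans (heq ▸ h3)
      have hconj : ∀ c' : F, g * (kA x' c' : GL (Idx a b) F) * g⁻¹ ∈ KG a b F := by
        intro c'
        have hmem : g * (kA x' c' : GL (Idx a b) F) * g⁻¹ ∈ M :=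
          M.mul_mem (M.mul_mem hg (kA_mem' h x' c')) (M.inv_mem hg)
        exact h1 x hx _ hmem (stab_of_commute h.ea x hx _
          (fun c => commute_of_perp h x x' g hg hperp c c'))
      have hginv : g⁻¹ ∈ KG a b F := by
        apply h2 x' hx' g⁻¹ (M.inv_mem hg)
        intro c
        rw [inv_inv]
        exact hconj c
      exact hgK (by simpa using (KG a b F).inv_mem hginv)
  · -- case (i)
    obtain ⟨s, hsdef⟩ : ∃ s : F, s = sf x x₁ := ⟨_, rfl⟩
    have hs0 : s ≠ 0 := by rw [hsdef]; exact hs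
    obtain ⟨nel, hnel⟩ : ∃ nel : GL (Idx a b) F,
        nel = kA x₁ ((s ^ 2)⁻¹) * kA x 1 := ⟨_, rfl⟩
    have hnelL : nel ∈ Lx x g x' := by
      rw [hnel]
      exact (Lx x g x').mul_mem (hkAx₁ _) (hkAx _)
    have hnelK : nel ∈ KG a b F := by
      rw [hnel]
      exact (KG a b F).mul_mem (kA_mem_KG _ _) (kA_mem_KG _ _)
    have hact : ∀ y : Fin b → F, mv nel (pt x₁ y) = (-s) • pt x y := by
      intro y
      rw [hnel, mv_mul, mv_kA_pt', mv_add, mv_smul, mv_kA_pt', mv_kA_pt', sf_self,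
        sf_skew x₁ x, ← hsdef]
      have : (s ^ 2)⁻¹ * s * s = 1 := by
        field_simp
      rw [mul_zero, zero_smul, add_zero, one_mul, smul_add, smul_smul]
      have e2 : -s * ((s ^ 2)⁻¹ * s) = -1 := by
        field_simp
      rw [e2]
      module
    have hact' : ∀ y : Fin b → F, mv nel⁻¹ (pt x y) = (-s)⁻¹ • pt x₁ y := by
      intro y
      have e := hact y
      have hns : -s ≠ 0 := neg_ne_zero.2 hs0
      calc mv nel⁻¹ (pt x y) = mv nel⁻¹ ((-s)⁻¹ • mv nel (pt x₁ y)) := by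
            rw [e, smul_smul, inv_mul_cancel₀ hns, one_smul]
        _ = (-s)⁻¹ • pt x₁ y := by rw [mv_smul, mv_inv_mv]
    refine ⟨x₀ * nel⁻¹, (Lx x g x').mul_mem hx₀L ((Lx x g x').inv_mem hnelL), ?_, fun y => ?_⟩
    · rw [← mul_assoc]
      exact (KG a b F).mul_mem hx₀K ((KG a b F).inv_mem hnelK)
    · rw [mv_mul, hact', mv_smul]
      exact Submodule.smul_mem _ _ (hx₁R y)

end Cfsg.Agent.Lib.Helper18.T23.H1.SOTLeaf
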