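import Mathlib
import Cfsg.Agent.Lib.Helper18.T23.H1.SOTLAA6core
import Cfsg.Agent.Lib.Helper18.T23.H4.SOTLAA5

/-!
helper1, S5666 (LA) leaf A6 `lemmaSA`, exact signature (`lemmaSA_core` on helper4's (A5) `exists_noneigen`).
-/

set_option autoImplicit false
set_option linter.unusedSectionVars false
set_option linter.unusedVariables false

namespace Cfsg.Agent.Lib.Helper18.T23.H1.SOTLALeaf
open Matrix
open Cfsg.Agent.Lib.Helper25.Tens Cfsg.Agent.Lib.Helper25.SpT Cfsg.Agent.Lib.Helper19.OSub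
open Cfsg.Agent.Lib.Helper18.T23.H2.SOT Cfsg.Agent.Lib.Helper18.T23.H27.SOTLA
open scoped Kronecker

variable {F : Type*} [Field F] [Fintype F] {a b : ℕ} {G : Matrix (Fin b) (Fin b) F}
  {M : Subgroup (GL (Idx a b) F)}

/-- (A6) LEMMA SA -/
theorem lemmaSA (hG : Gᵀ = G) (hnd : G.det ≠ 0) (h2 : (2 : F) ≠ 0) (hb : 3 ≤ b)
    (hex : ¬ (Fintype.card F = 3 ∧ b = 3))
    (S : Submodule F (Matrix (Fin b) (Fin b) F)) (hsa : ∀ σ ∈ S, IsSelfAdj G σ)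
    (hrefl : ∀ d : Fin b → F, fB G d d ≠ 0 → ∀ σ ∈ S, refl G d * σ * refl G d ∈ S)
    {σ : Matrix (Fin b) (Fin b) F} (hσ : σ ∈ S) (hns : ¬ IsScal σ) :
    ∃ z : Fin b → F, z ≠ 0 ∧ fB G z z = 0 ∧ rk1 G z z ∈ S :=
  lemmaSA_core hG hnd h2 hb hex S hsa hrefl hσ hns
    (Cfsg.Agent.Lib.Helper18.T23.H4.SOTLALeaf.exists_noneigen hG hnd h2 hb (hsa σ hσ) hns)

end Cfsg.Agent.Lib.Helper18.T23.H1.SOTLALeaf
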