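import Mathlib
import Cfsg.Agent.Lib.Helper18.T23.H1.SOTLATools
import Cfsg.Agent.Lib.Helper18.T23.H1.SOTLAA6
import Cfsg.Agent.Lib.Helper18.T23.H18.SOTLAA2
import Cfsg.Agent.Lib.Helper18.T23.H6.SOTLAU1
import Cfsg.Agent.Lib.Helper18.T23.H11.SOTLAU3
import Cfsg.Agent.Lib.Helper18.T23.H27.SOTLAU5
import Cfsg.Agent.Lib.Helper18.T23.H11.SOTLAU4

/-!
helper1, S5666 (LA) unit R1: `sigma_submodule`, `sigma_refl`, `uMat_rk1_eq_tvMat`, `R1`.
-/

set_option autoImplicit false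
set_option linter.unusedSectionVars false
set_option linter.unusedVariables false

namespace Cfsg.Agent.Lib.Helper18.T23.H1.SOTLALeaf
open Matrix
open Cfsg.Agent.Lib.Helper25.Tens Cfsg.Agent.Lib.Helper25.SpT Cfsg.Agent.Lib.Helper19.OSub
open Cfsg.Agent.Lib.Helper18.T23.H2.SOT Cfsg.Agent.Lib.Helper18.T23.H27.SOTLA
open Cfsg.Agent.Lib.Helper18.T23.H18.SOTLALeaf (refl_orth refl_mul_self)
open Cfsg.Agent.Lib.Helper18.T23.H6.SOTLALeaf (uMat_zero inM_uMat_mul inM_uMat_inv)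
open Cfsg.Agent.Lib.Helper18.T23.H11.SOTLALeaf (selfadj_of_symp)
open Cfsg.Agent.Lib.Helper18.T23.H27.SOTLALeaf (kel_mem_M exists_kel_one_orth)
open Cfsg.Agent.Lib.Helper18.T23.H11.SOTLALeaf (torA_conj_uMat exists_torA kel_conj_uMat)
open scoped Kronecker

variable {F : Type*} [Field F] [Fintype F] {a b : ℕ} {G : Matrix (Fin b) (Fin b) F}
  {M : Subgroup (GL (Idx a b) F)}

lemma ne_of_val {o o' : Fin a} (ho : o.val = 0) (ho' : o'.val = 1) : o ≠ o' := by
  intro e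
  rw [e] at ho
  omega

lemma mid_zero (o o' : Fin a) : Mid o o' (0 : Fin a → Matrix (Fin b) (Fin b) F) := ⟨rfl, rfl⟩

/-- (R1a) -/
theorem sigma_submodule (h : MCtx a b G M) {o o' : Fin a} (ho : o.val = 0) (ho' : o'.val = 1) :
    ∃ S : Submodule F (Matrix (Fin b) (Fin b) F),
      ∀ σ : Matrix (Fin b) (Fin b) F, σ ∈ S ↔ InM M (uMat o o' 0 0 σ) := by
  have hoo' : o ≠ o' := ne_of_val ho ho'
  have hmid := mid_zero (F := F) (b := b) o o'
  have h2 : (2 : F) ≠ 0 := h.two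
  have hadd : ∀ σ σ' : Matrix (Fin b) (Fin b) F, InM M (uMat o o' 0 0 σ) →
      InM M (uMat o o' 0 0 σ') → InM M (uMat o o' 0 0 (σ + σ')) := by
    intro σ σ' h1 h2
    have := inM_uMat_mul hoo' hmid hmid hmid hmid h1 h2
    simpa using this
  have hzero : InM M (uMat o o' 0 0 (0 : Matrix (Fin b) (Fin b) F)) := by
    rw [uMat_zero]
    exact ⟨1, M.one_mem, rfl⟩
  have hneg : ∀ σ : Matrix (Fin b) (Fin b) F, InM M (uMat o o' 0 0 σ) →
      InM M (uMat o o' 0 0 (-σ)) := by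
    intro σ h1
    have := inM_uMat_inv hoo' hmid hmid h1
    simpa using this
  have hsq : ∀ (t : F) (σ : Matrix (Fin b) (Fin b) F), InM M (uMat o o' 0 0 σ) →
      InM M (uMat o o' 0 0 (t ^ 2 • σ)) := by
    intro t σ h1
    by_cases ht : t = 0
    · subst ht
      rw [zero_pow (by norm_num), zero_smul]
      exact hzero
    · obtain ⟨T, hT, hTsf⟩ := exists_torA h.ea ho ho' ht
      have hk : (kel T (1 : GL (Fin b) F) : GL (Idx a b) F) ∈ M := by
        apply kel_mem_M h T 1 1 1 (one_mul 1)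
        · intro x x'
          rw [hTsf, one_mul]
        · intro y y'
          rw [Units.val_one, Matrix.one_mulVec, Matrix.one_mulVec, one_mul]
      obtain ⟨g, hgM, hg⟩ := h1
      have hc := torA_conj_uMat hoo' ht T hT hmid hmid (Ξ := σ)
      refine ⟨kel T 1 * g * (kel T 1)⁻¹, M.mul_mem (M.mul_mem hk hgM) (M.inv_mem hk), ?_⟩
      rw [Units.val_mul, Units.val_mul, hg, hc, smul_zero]
  have hsmul : ∀ (s : F) (σ : Matrix (Fin b) (Fin b) F), InM M (uMat o o' 0 0 σ) →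
      InM M (uMat o o' 0 0 (s • σ)) := by
    intro s σ h1
    have e : s • σ = ((s + 1) / 2) ^ 2 • σ + -(((s - 1) / 2) ^ 2 • σ) := by
      rw [← sub_eq_add_neg, ← sub_smul]
      congr 1
      field_simp
      ring
    rw [e]
    exact hadd _ _ (hsq _ σ h1) (hneg _ (hsq _ σ h1))
  exact ⟨{ carrier := {σ | InM M (uMat o o' 0 0 σ)}
           add_mem' := fun h1 h2 => hadd _ _ h1 h2
           zero_mem' := hzero
           smul_mem' := fun s σ h1 => hsmul s σ h1 }, fun σ => Iff.rfl⟩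

/-- (R1b) -/
theorem sigma_refl (h : MCtx a b G M) {o o' : Fin a} (ho : o.val = 0) (ho' : o'.val = 1)
    {σ : Matrix (Fin b) (Fin b) F} (hσ : InM M (uMat o o' 0 0 σ)) {d : Fin b → F}
    (hd : fB G d d ≠ 0) : InM M (uMat o o' 0 0 (refl G d * σ * refl G d)) := by
  have hoo' : o ≠ o' := ne_of_val ho ho'
  have hmid := mid_zero (F := F) (b := b) o o'
  obtain ⟨β', hβ', hkM⟩ := exists_kel_one_orth h (refl_orth h.symm hd)
  have hinv : ((β'⁻¹ : GL (Fin b) F) : Matrix (Fin b) (Fin b) F) = refl G d := by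
    have e1 : (β' : Matrix (Fin b) (Fin b) F) * ((β'⁻¹ : GL (Fin b) F) : Matrix (Fin b) (Fin b) F) = 1 := by
      rw [← Units.val_mul, mul_inv_cancel, Units.val_one]
    rw [hβ'] at e1
    calc ((β'⁻¹ : GL (Fin b) F) : Matrix (Fin b) (Fin b) F)
        = (refl G d * refl G d) * ((β'⁻¹ : GL (Fin b) F) : Matrix (Fin b) (Fin b) F) := by
          rw [refl_mul_self h.symm hd, Matrix.one_mul]
      _ = refl G d * (refl G d * ((β'⁻¹ : GL (Fin b) F) : Matrix (Fin b) (Fin b) F)) := by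
          rw [Matrix.mul_assoc]
      _ = refl G d := by rw [e1, Matrix.mul_one]
  have hBD : BlockDiag o o' ((1 : GL (Fin a) F) : Matrix (Fin a) (Fin a) F) := by
    unfold BlockDiag
    rw [Units.val_one]
    refine ⟨Matrix.one_apply_eq o, Matrix.one_apply_eq o', Matrix.one_apply_ne hoo',
      Matrix.one_apply_ne (Ne.symm hoo'), fun i hi hi' => ?_⟩
    exact ⟨Matrix.one_apply_ne hi, Matrix.one_apply_ne hi', Matrix.one_apply_ne (Ne.symm hi),
      Matrix.one_apply_ne (Ne.symm hi')⟩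
  obtain ⟨-, -, hc⟩ := kel_conj_uMat hoo' (1 : GL (Fin a) F) β' hBD hmid hmid (Ξ := σ)
  obtain ⟨g, hgM, hg⟩ := hσ
  refine ⟨kel 1 β' * g * (kel 1 β')⁻¹, M.mul_mem (M.mul_mem hkM hgM) (M.inv_mem hkM), ?_⟩
  rw [Units.val_mul, Units.val_mul, hg, hc, hβ', hinv]
  congr 1
  · funext k
    simp
  · funext l
    simp

/-- (R1c) -/
theorem uMat_rk1_eq_tvMat (ea : Even a) {o o' : Fin a} (ho : o.val = 0) (ho' : o'.val = 1)
    (z : Fin b → F) :
    uMat o o' 0 0 (rk1 G z z) = tvMat G (pt (Pi.single o (1 : F)) z) (-1) := by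
  have hoo' : o ≠ o' := ne_of_val ho ho'
  have hJ : ∀ j : Fin a, (Jm a : Matrix (Fin a) (Fin a) F) j o = if j = o' then -1 else 0 := by
    intro j
    rw [Jm_apply]
    by_cases hj : j = o'
    · subst hj
      rw [if_neg (by omega), if_pos ⟨by omega, by omega⟩, if_pos rfl]
    · have : j.val ≠ 1 := fun e => hj (Fin.ext (by omega))
      rw [if_neg (by omega), if_neg (by omega), if_neg hj]
  unfold uMat tvMat
  rw [kron_mulVec_pt, Matrix.mulVec_single_one]
  ext ⟨i, k⟩ ⟨j, l⟩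
  simp only [Matrix.add_apply, Matrix.sum_apply, Matrix.kroneckerMap_apply, Pi.zero_apply,
    Matrix.zero_apply, mul_zero, Finset.sum_const_zero, add_zero, Matrix.smul_apply,
    Matrix.vecMulVec_apply, pt, Matrix.col_apply, hJ, rk1, Matrix.single_apply, smul_eq_mul]
  by_cases hi : o = i <;> by_cases hj : j = o'
  · subst hi hj
    simp
  · have : ¬ o' = j := fun e => hj e.symm
    simp [hi, hj, this]
  · have : ¬ i = o := fun e => hi e.symm
    simp [hi, hj, this]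
  · have : ¬ i = o := fun e => hi e.symm
    have : ¬ o' = j := fun e => hj e.symm
    simp [hi, hj, *]

/-- (R1) -/
theorem R1 (h : MCtx a b G M) (hno : ¬ HasTv G M) {o o' : Fin a} (ho : o.val = 0)
    (ho' : o'.val = 1) {σ : Matrix (Fin b) (Fin b) F} (hσ : InM M (uMat o o' 0 0 σ)) :
    IsScal σ := by
  obtain ⟨S, hS⟩ := sigma_submodule h ho ho'
  by_contra hns
  have hsa : ∀ σ' ∈ S, IsSelfAdj G σ' := by
    intro σ' hσ'
    obtain ⟨g, hgM, hg⟩ := (hS σ').1 hσ'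
    apply selfadj_of_symp h.symm ho ho'
    intro v w
    have := (mem_SpV.1 (h.le_sp hgM)) v w
    rw [← hg]
    exact this
  have hrefl : ∀ d : Fin b → F, fB G d d ≠ 0 → ∀ σ' ∈ S, refl G d * σ' * refl G d ∈ S := by
    intro d hd σ' hσ'
    exact (hS _).2 (sigma_refl h ho ho' ((hS σ').1 hσ') hd)
  obtain ⟨z, hz0, hzz, hzS⟩ :=
    lemmaSA h.symm h.nd h.two h.hb h.hex S hsa hrefl ((hS σ).2 hσ) hns
  apply hno
  refine ⟨Pi.single o 1, z, -1, ?_, hz0, hzz, by simp, ?_⟩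
  · intro e
    have := congrFun e o
    simp at this
  · rw [← uMat_rk1_eq_tvMat h.ea ho ho']
    exact (hS _).1 hzS

end Cfsg.Agent.Lib.Helper18.T23.H1.SOTLALeaf
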